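import Mathlib
import Cfsg.Agent.Classical.LinearOrder

/-!
Semisimple elements of prime order commuting with a nilpotent matrix.
-/

set_option autoImplicit false
set_option linter.unusedSectionVars false

namespace CfsgLib.LinCentPrime

variable {F : Type*} [Field F] [Fintype F]

/-- An endomorphism of prime order prime to the linear group is trivial. -/
theorem end_eq_one {V : Type*} [AddCommGroup V] [Module F V] [Module.Finite F V] {r m : ℕ} (hr : r.Prime)
    (hno : ∀ d ≤ m, ¬ r ∣ Nat.card (GL (Fin d) F)) (hV : Module.finrank F V ≤ m)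
    (T : Module.End F V) (hT : T ^ r = 1) : T = 1 := by
  classical
  let e := LinearMap.toMatrixAlgEquiv (Module.finBasis F V)
  have he : e T ^ r = 1 := by rw [← map_pow, hT, map_one]
  let u : GL (Fin (Module.finrank F V)) F :=
    ⟨e T, e T ^ (r - 1), by rw [← pow_succ', Nat.sub_add_cancel hr.one_le, he],
      by rw [← pow_succ, Nat.sub_add_cancel hr.one_le, he]⟩
  have hu : u ^ r = 1 := Units.ext (by rw [Units.val_pow_eq_pow_val]; exact he)
  have hu1 : u = 1 := by
    rcases hr.eq_one_or_self_of_dvd _ (orderOf_dvd_of_pow_eq_one hu) with h | h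
    · exact orderOf_eq_one_iff.1 h
    · exact absurd (h ▸ orderOf_dvd_natCard u) (hno _ hV)
  exact e.injective ((congrArg Units.val hu1).trans (map_one e).symm)

/-- The primes of the small general linear groups. -/
theorem not_dvd_card_gl {r m : ℕ} (hr : r.Prime) (hm : 2 ≤ m)
    (h : ¬ r ∣ Nat.card (Matrix.SpecialLinearGroup (Fin m) F)) :
    (¬ r ∣ Fintype.card F) ∧ ∀ d ≤ m, ¬ r ∣ Nat.card (GL (Fin d) F) := by
  classical
  set q := Fintype.card F
  have hq : 1 < q := Fintype.one_lt_card
  have hS := CfsgLib.Linear.card_SL_mul (q := q) (F := F) rfl m (by omega)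
  have hterm : ∀ j, 1 ≤ j → j ≤ m → ∀ i : Fin m, (i : ℕ) = m - j →
      q ^ m - q ^ (i : ℕ) = q ^ (m - j) * (q ^ j - 1) := fun j hj hjm i hi => by
    rw [hi, Nat.mul_sub, mul_one, ← pow_add, Nat.sub_add_cancel hjm]
  have hq1 : ¬ r ∣ q - 1 := by
    intro hd
    let i₁ : Fin m := ⟨m - 1, by omega⟩
    let i₂ : Fin m := ⟨m - 2, by omega⟩
    have h1 : q - 1 ∣ q ^ m - q ^ (i₁ : ℕ) := by
      rw [hterm 1 le_rfl (by omega) i₁ rfl, pow_one]; exact dvd_mul_left _ _
    have h2 : q - 1 ∣ q ^ m - q ^ (i₂ : ℕ) := by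
      rw [hterm 2 (by omega) hm i₂ rfl]
      exact Dvd.dvd.mul_left (by simpa using Nat.sub_dvd_pow_sub_pow q 1 2) _
    have hne : i₁ ≠ i₂ := fun e => by simp [i₁, i₂, Fin.ext_iff] at e; omega
    have := (mul_dvd_mul h1 h2).trans ((Finset.prod_pair (f := fun i : Fin m => q ^ m - q ^ (i : ℕ)) hne).symm ▸
      Finset.prod_dvd_prod_of_subset ({i₁, i₂} : Finset (Fin m)) Finset.univ _ (Finset.subset_univ _))
    rw [← hS] at this
    exact h (hd.trans (Nat.dvd_of_mul_dvd_mul_left (by omega) this))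
  have hqr : ¬ r ∣ q := by
    intro hd
    let i₁ : Fin m := ⟨m - 1, by omega⟩
    have h1 : r ∣ ∏ i : Fin m, (q ^ m - q ^ (i : ℕ)) :=
      (Dvd.dvd.trans (by rw [hterm 1 le_rfl (by omega) i₁ rfl];
                         exact dvd_mul_of_dvd_left (dvd_pow hd (by omega)) _)
        (Finset.dvd_prod_of_mem _ (Finset.mem_univ i₁)))
    rw [← hS] at h1
    exact ((Nat.Prime.dvd_mul hr).1 h1).elim hq1 h
  refine ⟨hqr, fun d hd hdvd => ?_⟩
  rw [Matrix.card_GL_field, Prime.dvd_finsetProd_iff hr.prime] at hdvd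
  obtain ⟨i, -, hi⟩ := hdvd
  have hi2 := i.2
  rw [show q ^ d - q ^ (i : ℕ) = q ^ (i : ℕ) * (q ^ (d - i) - 1) by
    rw [Nat.mul_sub, mul_one, ← pow_add, Nat.add_sub_cancel' hi2.le]] at hi
  rcases (Nat.Prime.dvd_mul hr).1 hi with h1 | h1
  · exact hqr (hr.dvd_of_dvd_pow h1)
  · let j : Fin m := ⟨m - (d - i), by omega⟩
    have h2 : r ∣ ∏ i : Fin m, (q ^ m - q ^ (i : ℕ)) :=
      Dvd.dvd.trans (by rw [hterm (d - i) (by omega) (by omega) j rfl]; exact dvd_mul_of_dvd_right h1 _)
        (Finset.dvd_prod_of_mem _ (Finset.mem_univ j))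
    rw [← hS] at h2
    exact ((Nat.Prime.dvd_mul hr).1 h2).elim hq1 h

theorem restrict_pow_apply {V : Type*} [AddCommGroup V] [Module F V] (T : Module.End F V) (W : Submodule F V)
    (h : ∀ v ∈ W, T v ∈ W) (n : ℕ) (w : W) : (((T.restrict h) ^ n) w : V) = (T ^ n) w := by
  induction n generalizing w with
  | zero => rfl
  | succ n ih => rw [pow_succ, pow_succ, Module.End.mul_apply, Module.End.mul_apply, ih]; rfl

/-- An element of prime order commuting with a nilpotent endomorphism. -/
theorem eq_one_of_commute {V : Type*} [AddCommGroup V] [Module F V] [Module.Finite F V] {r m p : ℕ}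
    [Fact p.Prime] [CharP F p] (hr : r.Prime) (hrp : r ≠ p)
    (hno : ∀ d ≤ m, ¬ r ∣ Nat.card (GL (Fin d) F)) (hV : Module.finrank F V ≤ m + 2) (hm : 2 ≤ m)
    (R N : Module.End F V) (hR : R ^ r = 1) (hN : N ≠ 0) (hNil : IsNilpotent N) (hc : Commute R N) : R = 1 := by
  classical
  obtain ⟨k, hk0, hk1⟩ : ∃ k, N ^ k ≠ 0 ∧ N ^ (k + 1) = 0 ∧ k ≠ 0 := by
    have hc0 := hNil
    let K := Nat.find hc0
    have hK : N ^ K = 0 := Nat.find_spec hc0
    have hK1 : 1 < K := by
      by_contra hlt
      rcases Nat.le_one_iff_eq_zero_or_eq_one.1 (not_lt.1 hlt) with h | h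
      · rw [h, pow_zero] at hK; exact hN (by rw [← mul_one N, hK, mul_zero])
      · rw [h, pow_one] at hK; exact hN hK
    exact ⟨K - 1, Nat.find_min hc0 (show K - 1 < K by omega), by rwa [Nat.sub_add_cancel hK1.le], by omega⟩
  set M := N ^ k with hMdef
  have hM2 : M * M = 0 := by
    rw [hMdef, ← pow_add, show k + k = k + 1 + (k - 1) by omega, pow_add, hk1.1, zero_mul]
  have hcM : Commute R M := hc.pow_right k
  have hW12 : LinearMap.range M ≤ LinearMap.ker M := by
    rintro _ ⟨v, rfl⟩
    exact LinearMap.congr_fun hM2 v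
  have hdim := LinearMap.finrank_range_add_finrank_ker M
  have hle := Submodule.finrank_mono hW12
  have hpos : 0 < Module.finrank F (LinearMap.range M) := by
    rw [Nat.pos_iff_ne_zero, ne_eq, Submodule.finrank_eq_zero, LinearMap.range_eq_bot]
    exact hk0
  have hRW1 : ∀ v ∈ LinearMap.range M, R v ∈ LinearMap.range M := by
    rintro _ ⟨v, rfl⟩
    exact ⟨R v, (LinearMap.congr_fun hcM.eq v).symm⟩
  have hRW2 : ∀ v ∈ LinearMap.ker M, R v ∈ LinearMap.ker M := fun v hv => by
    rw [LinearMap.mem_ker] at hv ⊢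
    rw [show M (R v) = R (M v) from (LinearMap.congr_fun hcM.eq v).symm, hv, map_zero]
  have hfix1 : ∀ v ∈ LinearMap.range M, R v = v := by
    intro v hv
    have h1 : (R.restrict hRW1) = 1 := end_eq_one hr hno (by omega) _ (by
      ext w
      rw [restrict_pow_apply, hR]; rfl)
    exact congrArg Subtype.val (LinearMap.congr_fun h1 ⟨v, hv⟩)
  have hfix2 : ∀ v ∈ LinearMap.ker M, R v - v ∈ LinearMap.range M := by
    intro v hv
    let U := (LinearMap.range M).comap (LinearMap.ker M).subtype
    have hU : U ≤ U.comap (R.restrict hRW2) := fun w hw => hRW1 _ hw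
    have hq : Module.finrank F (LinearMap.ker M ⧸ U) ≤ m := by
      have h1 := U.finrank_quotient_add_finrank
      have h2 : Module.finrank F U = Module.finrank F (LinearMap.range M) :=
        (Submodule.comapSubtypeEquivOfLe hW12).finrank_eq
      omega
    have h1 : U.mapQ U (R.restrict hRW2) hU = 1 := end_eq_one hr hno hq _ (by
      rw [← Submodule.mapQ_pow]
      ext w
      have : ((R.restrict hRW2) ^ r) w = w := Subtype.ext (by rw [restrict_pow_apply, hR]; rfl)
      simp [this])
    have := LinearMap.congr_fun h1 (Submodule.Quotient.mk ⟨v, hv⟩)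
    rw [Submodule.mapQ_apply, Module.End.one_apply, Submodule.Quotient.eq] at this
    exact this
  have hcube : (R - 1) ^ 3 = 0 := by
    ext v
    have h1 : (R - 1) v ∈ LinearMap.ker M := by
      have : M v ∈ LinearMap.range M := ⟨v, rfl⟩
      rw [LinearMap.mem_ker, LinearMap.sub_apply, Module.End.one_apply, map_sub,
        show M (R v) = R (M v) from (LinearMap.congr_fun hcM.eq v).symm, hfix1 _ this, sub_self]
    have h2 := hfix2 _ h1
    have h3 := hfix1 _ h2
    simp only [pow_succ, pow_zero, one_mul, Module.End.mul_apply, LinearMap.zero_apply]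
    simp only [LinearMap.sub_apply, Module.End.one_apply] at h1 h2 h3 ⊢
    rw [h3, sub_self]
  haveI : Nontrivial V := by
    by_contra hnt
    rw [not_nontrivial_iff_subsingleton] at hnt
    exact hN (LinearMap.ext fun v => Subsingleton.elim _ _)
  haveI : CharP (Module.End F V) p := charP_of_injective_algebraMap (algebraMap F (Module.End F V)).injective p
  have hp2 : 3 ≤ p ^ 2 := by
    have := (Fact.out : p.Prime).two_le
    nlinarith
  have hp : R ^ (p ^ 2) = 1 := by
    have h0 : (R - 1) ^ (p ^ 2) = 0 := pow_eq_zero_of_le hp2 hcube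
    rwa [sub_pow_char_pow_of_commute p 2 (Commute.one_right R), one_pow, sub_eq_zero] at h0
  have := Nat.dvd_gcd (orderOf_dvd_of_pow_eq_one hR) (orderOf_dvd_of_pow_eq_one hp)
  rw [Nat.Coprime.gcd_eq_one (Nat.Coprime.pow_right 2 ((Nat.coprime_primes hr Fact.out).2 hrp)), Nat.dvd_one,
    orderOf_eq_one_iff] at this
  exact this

end CfsgLib.LinCentPrime
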